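import Mathlib
import Groth.Prelude.Def_MoreMor
import Groth.Agent.Lib.Helper1.WtLvl
import Groth.Agent.Lib.Helper5.EtSrc.OfComp

/-!
# Fibre integrals of constructible functions are constructible (helper5)

For a quasi-finite, quasi-compact, quasi-separated morphism of finite presentation `π : U ⟶ V`
to a qcqs scheme and a function `ω : U → ℤ` with finitely many values and constructible level
sets, the fibre integral of `ω` has constructible level sets.  The proof counts geometric points
by induction, passing to the complement of the diagonal in `U ×_V U`.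
-/

set_option autoImplicit false
universe u
open CategoryTheory CategoryTheory.Limits AlgebraicGeometry Topology

namespace Groth.Agent.H5.Wt

open Groth.Agent.H1 Groth.Agent.H1.WtLift Groth.Agent.H1.WtJ Groth.Agent.H1.WtKey
  Groth.Agent.H1.WtLvl Groth.Agent.H1.WtCons

section Basic

variable {P V : Scheme.{u}} (snd : P ⟶ V)

/-- the constant function one -/
def one : P → ℤ := fun _ => 1

lemma JS_indicator (ω : P → ℤ) (O S : Set P) (v : V) :
    JS snd (Set.indicator O ω) S v = JS snd ω (S ∩ O) v := by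
  unfold JS
  rw [finsum_mem_def, finsum_mem_def]
  refine finsum_congr (fun p => ?_)
  by_cases h1 : p ∈ S ∩ snd ⁻¹' {v}
  · by_cases h2 : p ∈ O
    · have h3 : p ∈ S ∩ O ∩ snd ⁻¹' {v} := ⟨⟨h1.1, h2⟩, h1.2⟩
      rw [Set.indicator_of_mem h1, Set.indicator_of_mem h3, Set.indicator_of_mem h2]
    · have h3 : p ∉ S ∩ O ∩ snd ⁻¹' {v} := fun h => h2 h.1.2
      rw [Set.indicator_of_mem h1, Set.indicator_of_notMem h3, Set.indicator_of_notMem h2,
        zero_mul]
  · have h3 : p ∉ S ∩ O ∩ snd ⁻¹' {v} := fun h => h1 ⟨h.1.1, h.2⟩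
    rw [Set.indicator_of_notMem h1, Set.indicator_of_notMem h3]

lemma JS_one_nonneg (O : Set P) (v : V) : 0 ≤ JS snd one O v := by
  unfold JS
  refine finsum_nonneg (fun p => finsum_nonneg (fun _ => ?_))
  exact mul_nonneg (by unfold one; norm_num) (Int.natCast_nonneg _)

lemma exists_of_JS_pos (ω : P → ℤ) (O : Set P) (v : V) (h : 0 < JS snd ω O v) :
    ∃ p ∈ O, snd p = v := by
  by_contra hne
  push Not at hne
  have : O ∩ snd ⁻¹' {v} = ∅ := by
    ext p
    simp only [Set.mem_inter_iff, Set.mem_preimage, Set.mem_singleton_iff, Set.mem_empty_iff_false,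
      iff_false, not_and]
    exact fun hp => hne p hp
  rw [JS_of_fiber_empty snd ω this] at h
  exact lt_irrefl _ h

end Basic

section OffDiag

variable {U V : Scheme.{u}} (π : U ⟶ V)

/-- the complement of the diagonal over `O` -/
def offDiag (O : Set U) : Set ↑(pullback π π) :=
  (pullback.snd π π) ⁻¹' O \ Set.range (pullback.diagonal π)

/-- Counting geometric points of the fibres of `U ×_V U ∖ Δ ⟶ U`. -/
theorem JS_offDiag [LocallyQuasiFinite π] (O : Set U) (u : U) (hfin : (π ⁻¹' {π u}).Finite) :
    JS (pullback.fst π π) one (offDiag π O) u = JS π one O (π u) - Set.indicator O one u := by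
  let pr₁ := pullback.fst π π
  let pr₂ := pullback.snd π π
  let Δ := pullback.diagonal π
  let ω : U → ℤ := Set.indicator O one
  obtain ⟨h1, hfin'⟩ := fibreIntegral_baseChange π pr₁ pr₂ π (IsPullback.of_hasPullback π π).flip
    ω u hfin
  rw [fibreIntegral_eq_JS_univ, fibreIntegral_eq_JS_univ] at h1
  -- the right hand side
  have h2 : JS π ω Set.univ (π u) = JS π one O (π u) := by
    rw [JS_indicator, Set.univ_inter]
  -- split the left hand side
  have hsplit : (Set.univ : Set ↑(pullback π π)) = Set.range Δ ∪ (Set.range Δ)ᶜ :=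
    (Set.union_compl_self _).symm
  have hf1 : (Set.range Δ ∩ pr₁ ⁻¹' {u}).Finite := hfin'.subset Set.inter_subset_right
  have hf2 : ((Set.range Δ)ᶜ ∩ pr₁ ⁻¹' {u}).Finite := hfin'.subset Set.inter_subset_right
  have h3 : JS pr₁ (ω ∘ pr₂) Set.univ u =
      JS pr₁ (ω ∘ pr₂) (Set.range Δ) u + JS pr₁ (ω ∘ pr₂) (Set.range Δ)ᶜ u := by
    rw [hsplit]
    exact JS_union pr₁ (ω ∘ pr₂) disjoint_compl_right hf1 hf2
  have h4 : JS pr₁ (ω ∘ pr₂) (Set.range Δ) u = ω u := by
    have hs : Set.range Δ ∩ pr₁ ⁻¹' {u} = {Δ u} := by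
      ext z
      simp only [Set.mem_inter_iff, Set.mem_range, Set.mem_preimage, Set.mem_singleton_iff]
      constructor
      · rintro ⟨⟨u', rfl⟩, hz⟩
        have : pr₁ (Δ u') = u' := diag_fst_apply π u'
        rw [this] at hz
        rw [hz]
      · rintro rfl
        exact ⟨⟨u, rfl⟩, diag_fst_apply π u⟩
    rw [JS_singleton pr₁ (ω ∘ pr₂) hs]
    have e1 : (ω ∘ pr₂) (Δ u) = ω u := by
      change ω (pr₂ (Δ u)) = ω u
      rw [show pr₂ (Δ u) = u from diag_snd_apply π u]
    have e2 : sepDeg pr₁ (Δ u) = 1 := sepDeg_of_section pr₁ Δ (pullback.diagonal_fst π) u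
    rw [e1, e2]; simp
  have h5 : JS pr₁ (ω ∘ pr₂) (Set.range Δ)ᶜ u = JS pr₁ one (offDiag π O) u := by
    have e : ω ∘ pr₂ = Set.indicator (pr₂ ⁻¹' O) one := by
      funext z
      by_cases hz : pr₂ z ∈ O
      · have hz' : z ∈ pr₂ ⁻¹' O := hz
        change Set.indicator O one (pr₂ z) = _
        rw [Set.indicator_of_mem hz, Set.indicator_of_mem hz']; rfl
      · have hz' : z ∉ pr₂ ⁻¹' O := hz
        change Set.indicator O one (pr₂ z) = _
        rw [Set.indicator_of_notMem hz, Set.indicator_of_notMem hz']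
    rw [e, JS_indicator]
    congr 1
    unfold offDiag
    rw [Set.inter_comm]; rfl
  rw [h3, h4, h5, h2] at h1
  change JS pr₁ one (offDiag π O) u = JS π one O (π u) - ω u
  linarith

theorem setOf_succ_le_JS [LocallyQuasiFinite π] [QuasiCompact π] (O : Set U) (m : ℕ) :
    {v : V | ((m + 1 : ℕ) : ℤ) ≤ JS π one O v} =
      π '' (O ∩ {u : U | (m : ℤ) ≤ JS (pullback.fst π π) one (offDiag π O) u}) := by
  have hfin : ∀ v, (π ⁻¹' {v}).Finite := fun v => Scheme.Hom.finite_preimage_singleton π v
  ext v
  simp only [Set.mem_ofPred_eq, Set.mem_image, Set.mem_inter_iff]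
  constructor
  · intro hv
    have hpos : 0 < JS π one O v := by
      have : (0 : ℤ) < ((m + 1 : ℕ) : ℤ) := by positivity
      linarith
    obtain ⟨u, huO, rfl⟩ := exists_of_JS_pos π one O v hpos
    refine ⟨u, ⟨huO, ?_⟩, rfl⟩
    rw [JS_offDiag π O u (hfin _), Set.indicator_of_mem huO]
    have h1 : one u = (1 : ℤ) := rfl
    rw [h1]
    push_cast at hv ⊢
    linarith
  · rintro ⟨u, ⟨huO, hu⟩, rfl⟩
    rw [JS_offDiag π O u (hfin _), Set.indicator_of_mem huO] at hu
    have h1 : one u = (1 : ℤ) := rfl
    rw [h1] at hu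
    push_cast at hu ⊢
    linarith

end OffDiag

section Constructible

/-- The locus where there are at least `m` geometric points of the fibre in `O` is constructible. -/
theorem isConstructible_le_JS (m : ℕ) : ∀ {U V : Scheme.{u}} (π : U ⟶ V) [LocallyQuasiFinite π]
    [LocallyOfFinitePresentation π] [QuasiCompact π] [QuasiSeparated π] [CompactSpace V]
    [QuasiSeparatedSpace V] (O : Set U), IsConstructible O →
    IsConstructible {v : V | (m : ℤ) ≤ JS π one O v} := by
  induction m with
  | zero =>
    intro U V π _ _ _ _ _ _ O _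
    have : {v : V | ((0 : ℕ) : ℤ) ≤ JS π one O v} = Set.univ := by
      ext v
      simp only [Set.mem_ofPred_eq, Set.mem_univ, iff_true, Nat.cast_zero]
      exact JS_one_nonneg π O v
    rw [this]
    exact IsConstructible.univ
  | succ m ih =>
    intro U V π _ _ _ _ _ _ O hO
    haveI : CompactSpace U := QuasiCompact.compactSpace_of_compactSpace π
    haveI : QuasiSeparatedSpace U := quasiSeparatedSpace_of_quasiSeparated π
    rw [setOf_succ_le_JS π O m]
    refine Scheme.Hom.isConstructible_image π (hO.inter ?_)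
    haveI : LocallyOfFinitePresentation (pullback.diagonal π) :=
      Groth.Agent.H5.EtSrc.locallyOfFinitePresentation_of_comp (pullback.diagonal π)
        (pullback.fst π π) (by rw [pullback.diagonal_fst]; infer_instance) inferInstance
    haveI : CompactSpace ↥(pullback π π) :=
      QuasiCompact.compactSpace_of_compactSpace (pullback.fst π π)
    haveI : QuasiSeparatedSpace ↥(pullback π π) :=
      quasiSeparatedSpace_of_quasiSeparated (pullback.fst π π)
    have hΔ : IsConstructible (Set.range (pullback.diagonal π)) := by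
      rw [← Set.image_univ]
      exact Scheme.Hom.isConstructible_image (pullback.diagonal π) IsConstructible.univ
    have hO' : IsConstructible (offDiag π O) :=
      ((pullback.snd π π).isConstructible_preimage hO).sdiff hΔ
    exact ih (pullback.fst π π) (offDiag π O) hO'

variable {U V : Scheme.{u}} (π : U ⟶ V) [LocallyQuasiFinite π] [LocallyOfFinitePresentation π]
  [QuasiCompact π] [QuasiSeparated π] [CompactSpace V] [QuasiSeparatedSpace V]

/-- The number of geometric points of the fibres in a constructible set is piecewise constant. -/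
theorem pc_JS_one (O : Set U) (hO : IsConstructible O) : PC (fun v => JS π one O v) := by
  intro v
  obtain ⟨m, hm⟩ := Int.eq_ofNat_of_zero_le (JS_one_nonneg π O v)
  refine ⟨{v' | (m : ℤ) ≤ JS π one O v'} \ {v' | ((m + 1 : ℕ) : ℤ) ≤ JS π one O v'},
    (isConstructible_le_JS m π O hO).sdiff (isConstructible_le_JS (m + 1) π O hO), ?_, ?_⟩
  · refine ⟨by simp [hm], ?_⟩
    simp only [Set.mem_ofPred_eq, not_le, hm]
    push_cast; linarith
  · rintro v' ⟨h1, h2⟩
    simp only [Set.mem_ofPred_eq, not_le] at h1 h2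
    push_cast at h2
    change JS π one O v' = JS π one O v
    rw [hm]; linarith

theorem PC.const_mul {Y : Scheme.{u}} {I : Y → ℤ} (c : ℤ) (h : PC I) : PC (fun y => c * I y) := by
  intro y
  obtain ⟨S, hS, hy, hc⟩ := h y
  exact ⟨S, hS, hy, fun y' hy' => by change c * I y' = c * I y; rw [hc y' hy']⟩

theorem PC.finset_sum {Y : Scheme.{u}} {ι : Type*} (s : Finset ι) (I : ι → Y → ℤ)
    (h : ∀ i ∈ s, PC (I i)) : PC (fun y => ∑ i ∈ s, I i y) := by
  classical
  induction s using Finset.induction_on with
  | empty => simpa using PC.const (Y := Y) 0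
  | insert a s ha ih =>
    have h1 := h a (Finset.mem_insert_self a s)
    have h2 := ih (fun i hi => h i (Finset.mem_insert_of_mem hi))
    refine (h1.add h2).congr (fun y => ?_)
    rw [Finset.sum_insert ha]

/-- decomposition of a fibre integral according to the values of the weight -/
theorem fibreIntegral_eq_sum (ω : U → ℤ) (T : Finset ℤ) (hT : ∀ u, ω u ∈ T) (v : V) :
    MoreMor.fibreIntegral π ω v = ∑ n ∈ T, n * JS π one {u | ω u = n} v := by
  classical
  have hfin : (π ⁻¹' {v}).Finite := Scheme.Hom.finite_preimage_singleton π v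
  rw [fibreIntegral_eq_JS_univ]
  unfold JS
  rw [Set.univ_inter, finsum_mem_eq_finite_toFinset_sum _ hfin]
  have h1 : ∀ n ∈ T, ∑ᶠ p ∈ {u | ω u = n} ∩ π ⁻¹' {v}, one p * (sepDeg π p : ℤ) =
      ∑ p ∈ hfin.toFinset with ω p = n, (sepDeg π p : ℤ) := by
    intro n _
    have hfin' : ({u | ω u = n} ∩ π ⁻¹' {v}).Finite := hfin.subset Set.inter_subset_right
    rw [finsum_mem_eq_finite_toFinset_sum _ hfin']
    refine Finset.sum_congr ?_ (fun p _ => by unfold one; ring)
    ext p
    simp only [Set.Finite.mem_toFinset, Set.mem_inter_iff, Set.mem_ofPred_eq, Finset.mem_filter]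
    tauto
  calc ∑ p ∈ hfin.toFinset, ω p * (sepDeg π p : ℤ)
      = ∑ n ∈ T, ∑ p ∈ hfin.toFinset with ω p = n, ω p * (sepDeg π p : ℤ) :=
        (Finset.sum_fiberwise_of_maps_to (fun p _ => hT p) _).symm
    _ = ∑ n ∈ T, n * ∑ᶠ p ∈ {u | ω u = n} ∩ π ⁻¹' {v}, one p * (sepDeg π p : ℤ) := by
        refine Finset.sum_congr rfl (fun n hn => ?_)
        rw [h1 n hn, Finset.mul_sum]
        refine Finset.sum_congr rfl (fun p hp => ?_)
        rw [(Finset.mem_filter.mp hp).2]

/-- **Constructibility of fibre integrals.** -/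
theorem pc_fibreIntegral (ω : U → ℤ) (T : Finset ℤ) (hT : ∀ u, ω u ∈ T)
    (hω : ∀ n, IsConstructible {u | ω u = n}) : PC (MoreMor.fibreIntegral π ω) := by
  have h := PC.finset_sum T (fun n v => n * JS π one {u | ω u = n} v)
    (fun n _ => PC.const_mul n (pc_JS_one π _ (hω n)))
  exact h.congr (fun v => fibreIntegral_eq_sum π ω T hT v)

theorem isConstructible_levelSet_fibreIntegral (ω : U → ℤ) (T : Finset ℤ) (hT : ∀ u, ω u ∈ T)
    (hω : ∀ n, IsConstructible {u | ω u = n}) (n : ℤ) :
    IsConstructible {v : V | MoreMor.fibreIntegral π ω v = n} :=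
  WtCons.isConstructible_levelSet (MoreMor.fibreIntegral π ω)
    (fun y => pc_fibreIntegral π ω T hT hω y) n

theorem finite_range_fibreIntegral (ω : U → ℤ) (T : Finset ℤ) (hT : ∀ u, ω u ∈ T)
    (hω : ∀ n, IsConstructible {u | ω u = n}) :
    (Set.range (MoreMor.fibreIntegral π ω)).Finite := by
  classical
  -- bounded by a direct argument: the values are sums over `T`
  have hpc := pc_fibreIntegral π ω T hT hω
  choose S hSc hxS hS using hpc
  obtain ⟨σ, hσ⟩ := (isCompact_univ (X := WithConstructibleTopology V)).elim_finite_subcover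
    (fun x : V => WithTopology.ofTopology ⁻¹' (S x))
    (fun x => (isClopen_constructibleTopology_of_isConstructible (hSc x)).1)
    (fun y _ => Set.mem_iUnion.mpr ⟨WithTopology.ofTopology y, hxS _⟩)
  refine (σ.finite_toSet.image (MoreMor.fibreIntegral π ω)).subset ?_
  rintro _ ⟨y, rfl⟩
  have := hσ (Set.mem_univ (WithTopology.toTopology _ y))
  simp only [Set.mem_iUnion, exists_prop] at this
  obtain ⟨x, hx, hy⟩ := this
  exact ⟨x, hx, (hS x y hy).symm⟩

end Constructible

end Groth.Agent.H5.Wt
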