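import Mathlib
import Groth.Prelude.Def_MoreMor
import Groth.Agent.Lib.Helper1.WtLvl
import Groth.Agent.Lib.Helper5.Wt.WtA

/-!
# The universal criterion for weightings (helper5)

Given `f : X ⟶ Y` and a "universal finite open" `(Yu, a, Uu)` for `f`, a function `w'` on a base
change `X'` of `X` along `b : Y' ⟶ Y` is a weighting iff the integral `IFn` of `w'` over the
base change of `Uu` is a locally constant function on `Yu ×_Y Y'`.
-/

set_option autoImplicit false
universe u
open CategoryTheory CategoryTheory.Limits AlgebraicGeometry Topology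

namespace Groth.Agent.H5.Wt

open Groth.Agent.H1 Groth.Agent.H1.WtLift Groth.Agent.H1.WtJ Groth.Agent.H1.WtKey
  Groth.Agent.H1.WtBC Groth.Agent.H1.WtComp

variable {X Y Yu : Scheme.{u}} (f : X ⟶ Y) (a : Yu ⟶ Y) (Uu : (pullback f a).Opens)

section BC

variable {X' Y' : Scheme.{u}} {pX : X' ⟶ X} {f' : X' ⟶ Y'} {b : Y' ⟶ Y}
  (hX' : IsPullback pX f' f b)

include hX' in
lemma mMap_comm : (pullback.fst f' (pullback.snd a b) ≫ pX) ≫ f =
    (pullback.snd f' (pullback.snd a b) ≫ pullback.fst a b) ≫ a := by
  calc (pullback.fst f' (pullback.snd a b) ≫ pX) ≫ f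
      = pullback.fst f' (pullback.snd a b) ≫ f' ≫ b := by rw [Category.assoc, hX'.w]
    _ = (pullback.snd f' (pullback.snd a b) ≫ pullback.snd a b) ≫ b := by
        rw [← Category.assoc, pullback.condition]
    _ = (pullback.snd f' (pullback.snd a b) ≫ pullback.fst a b) ≫ a := by
        rw [Category.assoc, Category.assoc, pullback.condition]

/-- The comparison map `X' ×_{Y'} (Yu ×_Y Y') ⟶ X ×_Y Yu`. -/
noncomputable def mMap : pullback f' (pullback.snd a b) ⟶ pullback f a :=
  pullback.lift (pullback.fst f' (pullback.snd a b) ≫ pX)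
    (pullback.snd f' (pullback.snd a b) ≫ pullback.fst a b) (mMap_comm f a hX')

lemma mMap_fst : mMap f a hX' ≫ pullback.fst f a = pullback.fst f' (pullback.snd a b) ≫ pX :=
  pullback.lift_fst _ _ _

lemma mMap_snd : mMap f a hX' ≫ pullback.snd f a =
    pullback.snd f' (pullback.snd a b) ≫ pullback.fst a b :=
  pullback.lift_snd _ _ _

lemma isPullback_mMap : IsPullback (mMap f a hX') (pullback.snd f' (pullback.snd a b))
    (pullback.snd f a) (pullback.fst a b) := by
  have h1 : IsPullback (pullback.fst f' (pullback.snd a b) ≫ pX)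
      (pullback.snd f' (pullback.snd a b)) f (pullback.snd a b ≫ b) :=
    (IsPullback.of_hasPullback f' (pullback.snd a b)).paste_horiz hX'
  have h2 : IsPullback (mMap f a hX' ≫ pullback.fst f a) (pullback.snd f' (pullback.snd a b)) f
      (pullback.fst a b ≫ a) := by
    rw [mMap_fst, pullback.condition]; exact h1
  exact IsPullback.of_right h2 (mMap_snd f a hX') (IsPullback.of_hasPullback f a)

/-- The base change of the universal open. -/
noncomputable def ZOpen : (pullback f' (pullback.snd a b)).Opens := (mMap f a hX') ⁻¹ᵁ Uu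

lemma isPullback_ZOpen : IsPullback ((mMap f a hX') ∣_ Uu)
    ((ZOpen f a Uu hX').ι ≫ pullback.snd f' (pullback.snd a b)) (Uu.ι ≫ pullback.snd f a)
    (pullback.fst a b) :=
  (isPullback_morphismRestrict (mMap f a hX') Uu).paste_vert (isPullback_mMap f a hX')

lemma isFinite_ZOpen (hfin : IsFinite (Uu.ι ≫ pullback.snd f a)) :
    IsFinite ((ZOpen f a Uu hX').ι ≫ pullback.snd f' (pullback.snd a b)) :=
  MorphismProperty.of_isPullback (P := @IsFinite) (isPullback_ZOpen f a Uu hX') hfin

/-- The integral of `w'` over the base change of the universal finite open. -/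
noncomputable def IFn (w' : X' → ℤ) : ↑(pullback a b) → ℤ :=
  J (pullback.snd f' (pullback.snd a b)) (w' ∘ pullback.fst f' (pullback.snd a b))
    (ZOpen f a Uu hX')

section KL

variable {V P : Scheme.{u}} (e : V ⟶ Y') (c : V ⟶ Yu) (hce : c ≫ a = e ≫ b) (fst : P ⟶ X')
  (snd : P ⟶ V) (hP : IsPullback fst snd f' e)

/-- the induced map to `Yu ×_Y Y'` -/
noncomputable def cMap : V ⟶ pullback a b := pullback.lift c e hce

lemma cMap_fst : cMap a e c hce ≫ pullback.fst a b = c := pullback.lift_fst _ _ _
lemma cMap_snd : cMap a e c hce ≫ pullback.snd a b = e := pullback.lift_snd _ _ _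

include hP in
lemma nMap_comm : fst ≫ f' = (snd ≫ cMap a e c hce) ≫ pullback.snd a b := by
  rw [Category.assoc, cMap_snd]; exact hP.w

/-- the induced map to `X' ×_{Y'} (Yu ×_Y Y')` -/
noncomputable def nMap : P ⟶ pullback f' (pullback.snd a b) :=
  pullback.lift fst (snd ≫ cMap a e c hce) (nMap_comm a e c hce fst snd hP)

lemma nMap_fst : nMap a e c hce fst snd hP ≫ pullback.fst f' (pullback.snd a b) = fst :=
  pullback.lift_fst _ _ _

lemma nMap_snd : nMap a e c hce fst snd hP ≫ pullback.snd f' (pullback.snd a b) =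
    snd ≫ cMap a e c hce :=
  pullback.lift_snd _ _ _

lemma isPullback_nMap : IsPullback (nMap a e c hce fst snd hP) snd
    (pullback.snd f' (pullback.snd a b)) (cMap a e c hce) := by
  have h1 : IsPullback (nMap a e c hce fst snd hP ≫ pullback.fst f' (pullback.snd a b)) snd f'
      (cMap a e c hce ≫ pullback.snd a b) := by
    rw [nMap_fst, cMap_snd]; exact hP
  exact IsPullback.of_right h1 (nMap_snd a e c hce fst snd hP)
    (IsPullback.of_hasPullback f' (pullback.snd a b))

/-- **Key lemma**: integrals over pullbacks of the universal open are computed by `IFn`. -/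
theorem KL [LocallyQuasiFinite f] (hfin : IsFinite (Uu.ι ≫ pullback.snd f a)) (w' : X' → ℤ)
    (v : V) :
    JS snd (w' ∘ fst) ((nMap a e c hce fst snd hP) ⁻¹' (ZOpen f a Uu hX' : Set _)) v =
      IFn f a Uu hX' w' (cMap a e c hce v) := by
  haveI : LocallyQuasiFinite f' := MorphismProperty.of_isPullback hX' ‹_›
  haveI : LocallyQuasiFinite (pullback.snd f' (pullback.snd a b)) :=
    MorphismProperty.pullback_snd _ _ inferInstance
  haveI hZfin := isFinite_ZOpen f a Uu hX' hfin
  have hfib : (((ZOpen f a Uu hX' : (pullback f' (pullback.snd a b)).Opens) : Set _) ∩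
      (pullback.snd f' (pullback.snd a b)) ⁻¹' {cMap a e c hce v}).Finite :=
    finite_fiber_opens' _ _ _ (Scheme.Hom.finite_preimage_singleton _ _)
  obtain ⟨h1, -⟩ := J_baseChange (isPullback_nMap a e c hce fst snd hP)
    (w' ∘ pullback.fst f' (pullback.snd a b)) (ZOpen f a Uu hX') v hfib
  unfold IFn
  rw [← h1, J_eq_JS]
  have e1 : (w' ∘ pullback.fst f' (pullback.snd a b)) ∘ (nMap a e c hce fst snd hP) = w' ∘ fst := by
    funext p
    change w' ((nMap a e c hce fst snd hP ≫ pullback.fst f' (pullback.snd a b)) p) = w' (fst p)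
    rw [nMap_fst]
  rw [e1]
  rfl

end KL

/-- If `IFn` is locally constant, then `w'` is a weighting. -/
theorem genWeighting_of_isLocallyConstant_IFn [LocallyQuasiFinite f]
    (hfin : IsFinite (Uu.ι ≫ pullback.snd f a))
    (hU : ∀ (Y'' : Scheme.{u}) (b' : Y'' ⟶ Y) (U' : (pullback f b').Opens), IsAffine Y'' →
      IsFinite (U'.ι ≫ pullback.snd f b') →
        ∃ (c : Y'' ⟶ Yu) (hc : c ≫ a = b'),
          (pullback.map f b' f a (𝟙 X) c (𝟙 Y)
            ((Category.comp_id f).trans (Category.id_comp f).symm)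
            ((Category.comp_id b').trans hc.symm)) ⁻¹ᵁ Uu = U')
    (w' : X' → ℤ) (hI : IsLocallyConstant (IFn f a Uu hX' w')) : GenWeighting f' w' := by
  -- tests over an affine base
  have haff : ∀ D : Test f', IsAffine D.V → IsLocallyConstant (D.I w') := by
    intro D hDV
    let b' : D.V ⟶ Y := D.g ≫ b
    have hbig : IsPullback (D.fst ≫ pX) D.snd f b' := D.pb.paste_horiz hX'
    let φ := hbig.isoPullback
    have hφ1 : φ.hom ≫ pullback.fst f b' = D.fst ≫ pX := hbig.isoPullback_hom_fst
    have hφ2 : φ.hom ≫ pullback.snd f b' = D.snd := hbig.isoPullback_hom_snd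
    let j' : D.U ⟶ pullback f b' := D.j ≫ φ.hom
    let U' := j'.opensRange
    let i := j'.isoOpensRange
    have hi : i.hom ≫ U'.ι = j' := j'.isoOpensRange_hom_ι
    have hcomm : i.hom ≫ U'.ι ≫ pullback.snd f b' = D.π := by
      rw [← Category.assoc, hi, Category.assoc, hφ2]
    have hfin' : IsFinite (U'.ι ≫ pullback.snd f b') := by
      have : U'.ι ≫ pullback.snd f b' = i.inv ≫ D.π := by
        rw [← hcomm, Iso.inv_hom_id_assoc]
      rw [this]
      infer_instance
    obtain ⟨c, hc, hpre⟩ := hU D.V b' U' hDV hfin'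
    have hc' : c ≫ a = D.g ≫ b := hc
    have key : ∀ v, D.I w' v = IFn f a Uu hX' w' (cMap a D.g c hc' v) := by
      intro v
      rw [← KL f a Uu hX' D.g c hc' D.fst D.snd D.pb hfin w' v]
      have e0 : D.I w' v = JS D.snd (w' ∘ D.fst) (Set.range D.j) v :=
        fibreIntegral_eq_JS D.j D.snd (w' ∘ D.fst) v
      rw [e0]
      congr 1
      -- the two open subsets agree
      have hnm : nMap a D.g c hc' D.fst D.snd D.pb ≫ mMap f a hX' =
          φ.hom ≫ pullback.map f b' f a (𝟙 X) c (𝟙 Y)
            ((Category.comp_id f).trans (Category.id_comp f).symm)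
            ((Category.comp_id b').trans hc.symm) := by
        apply pullback.hom_ext
        · rw [Category.assoc, mMap_fst, ← Category.assoc, nMap_fst, Category.assoc,
            pullback.lift_fst, ← Category.assoc, hφ1, Category.comp_id]
        · rw [Category.assoc, mMap_snd, ← Category.assoc, nMap_snd, Category.assoc, cMap_fst,
            Category.assoc, pullback.lift_snd, ← Category.assoc, hφ2]
      ext p
      constructor
      · rintro ⟨u, rfl⟩
        change mMap f a hX' (nMap a D.g c hc' D.fst D.snd D.pb (D.j u)) ∈ Uu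
        have h1 : mMap f a hX' (nMap a D.g c hc' D.fst D.snd D.pb (D.j u)) =
            (nMap a D.g c hc' D.fst D.snd D.pb ≫ mMap f a hX') (D.j u) := rfl
        rw [h1, hnm]
        have h2 : φ.hom (D.j u) ∈ U' := ⟨u, rfl⟩
        rw [← hpre] at h2
        exact h2
      · intro hp
        have h1 : (nMap a D.g c hc' D.fst D.snd D.pb ≫ mMap f a hX') p ∈ Uu := hp
        rw [hnm] at h1
        have h2 : φ.hom p ∈ U' := by
          rw [← hpre]; exact h1
        obtain ⟨u, hu⟩ := h2
        refine ⟨u, ?_⟩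
        exact φ.hom.injective hu
    have : D.I w' = IFn f a Uu hX' w' ∘ (cMap a D.g c hc') := funext key
    rw [this]
    exact hI.comp_continuous (cMap a D.g c hc').continuous
  -- the general case
  intro D
  rw [IsLocallyConstant.iff_exists_open]
  intro v
  obtain ⟨_, ⟨V₀', hV₀, rfl⟩, hvV₀, -⟩ :=
    D.V.isBasis_affineOpens.exists_subset_of_mem_open (Set.mem_univ v) isOpen_univ
  let V₀ : D.V.Opens := V₀'
  let D₀ : Test f' := Test.bc D V₀.ι
  have h0 : IsLocallyConstant (D₀.I w') := haff D₀ (show IsAffine (V₀ : Scheme.{u}) from hV₀)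
  let v₁ : (V₀ : Scheme.{u}) := ⟨v, hvV₀⟩
  obtain ⟨N₁, hN₁o, hvN₁, hN₁⟩ := (IsLocallyConstant.iff_exists_open _).mp h0 v₁
  obtain ⟨N, hvN, hN⟩ := exists_nbhd_of_bc D V₀.ι w' v₁ ⟨⟨N₁, hN₁o⟩, hvN₁, hN₁⟩
  exact ⟨N, N.2, hvN, hN⟩

/-- If `w'` is a weighting, then `IFn` is locally constant. -/
theorem isLocallyConstant_IFn_of_genWeighting [LocallyQuasiFinite f] [LocallyOfFiniteType f]
    (hfin : IsFinite (Uu.ι ≫ pullback.snd f a)) (w' : X' → ℤ) (hw' : GenWeighting f' w') :
    IsLocallyConstant (IFn f a Uu hX' w') := by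
  haveI : LocallyQuasiFinite f' := MorphismProperty.of_isPullback hX' ‹_›
  haveI : LocallyOfFiniteType f' := MorphismProperty.of_isPullback hX' ‹_›
  have h1 : GenWeighting (pullback.snd f' (pullback.snd a b))
      (w' ∘ pullback.fst f' (pullback.snd a b)) :=
    genWeighting_baseChange f' w' hw' _ _ _ (IsPullback.of_hasPullback f' (pullback.snd a b))
  let D : Test (pullback.snd f' (pullback.snd a b)) :=
    { V := pullback a b, g := 𝟙 _, P := pullback f' (pullback.snd a b), fst := 𝟙 _
      snd := pullback.snd f' (pullback.snd a b), U := (ZOpen f a Uu hX' : Scheme.{u})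
      j := (ZOpen f a Uu hX').ι, etale := inferInstance
      pb := IsPullback.id_horiz _
      open_j := inferInstance, fin := isFinite_ZOpen f a Uu hX' hfin }
  have h2 := h1 D
  have e : D.I (w' ∘ pullback.fst f' (pullback.snd a b)) = IFn f a Uu hX' w' := by
    funext v
    unfold Test.I IFn J
    congr 1
  rw [← e]
  exact h2

end BC

end Groth.Agent.H5.Wt
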