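import Mathlib
import Groth.Prelude.Def_MoreMor
import Groth.Agent.Lib.Helper1.WtBdd
import Groth.Agent.Lib.Helper5.Wt.WtA
import Groth.Agent.Lib.Helper5.Wt.WtB
import Groth.Agent.Lib.Helper5.Lim.BaseChangeSystem
import Groth.Agent.Lib.Helper5.Lim.ConstructibleOpen
import Groth.Agent.Lib.Helper5.Lim.Constructible

/-!
# Weightings descend along limits, part C (helper5)

Compatibility of the integrals `IFn` with change of base, and descent of functions with
constructible level sets to a finite stage of a limit.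
-/

set_option autoImplicit false
universe u
open CategoryTheory CategoryTheory.Limits AlgebraicGeometry Topology

namespace Groth.Agent.H5.Wt

open Groth.Agent.H1 Groth.Agent.H1.WtLift Groth.Agent.H1.WtJ Groth.Agent.H1.WtKey
  Groth.Agent.H1.WtBC Groth.Agent.H1.WtComp Groth.Agent.H1.WtLvl Groth.Agent.H5.Lim

section Comp

variable {X Y Yu : Scheme.{u}} (f : X ⟶ Y) (a : Yu ⟶ Y) (Uu : (pullback f a).Opens)
variable {X₁ Y₁ X₂ Y₂ : Scheme.{u}} {pX₁ : X₁ ⟶ X} {f₁ : X₁ ⟶ Y₁} {b₁ : Y₁ ⟶ Y}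
  (hX₁ : IsPullback pX₁ f₁ f b₁) {pX₂ : X₂ ⟶ X} {f₂ : X₂ ⟶ Y₂} {b₂ : Y₂ ⟶ Y}
  (hX₂ : IsPullback pX₂ f₂ f b₂) (t : Y₂ ⟶ Y₁) (ht : t ≫ b₁ = b₂) (s : X₂ ⟶ X₁)
  (hs1 : s ≫ pX₁ = pX₂) (hs2 : s ≫ f₁ = f₂ ≫ t)

include ht hs1 hs2 in
/-- Compatibility of `IFn` with change of base. -/
theorem IFn_comp [LocallyQuasiFinite f] (hfin : IsFinite (Uu.ι ≫ pullback.snd f a))
    (w₁ : X₁ → ℤ) (hτ : pullback.fst a b₂ ≫ a = (pullback.snd a b₂ ≫ t) ≫ b₁)
    (y : ↑(pullback a b₂)) :
    IFn f a Uu hX₂ (w₁ ∘ s) y =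
      IFn f a Uu hX₁ w₁ (pullback.lift (pullback.fst a b₂) (pullback.snd a b₂ ≫ t) hτ y) := by
  have hsq : IsPullback s f₂ f₁ t :=
    IsPullback.of_right (by rw [hs1, ht]; exact hX₂) hs2 hX₁
  have hP : IsPullback (pullback.fst f₂ (pullback.snd a b₂) ≫ s)
      (pullback.snd f₂ (pullback.snd a b₂)) f₁ (pullback.snd a b₂ ≫ t) :=
    (IsPullback.of_hasPullback f₂ (pullback.snd a b₂)).paste_horiz hsq
  have key := KL f a Uu hX₁ (pullback.snd a b₂ ≫ t) (pullback.fst a b₂) hτ _ _ hP hfin w₁ y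
  refine Eq.trans ?_ key
  unfold IFn
  rw [J_eq_JS]
  have hnm : nMap a (pullback.snd a b₂ ≫ t) (pullback.fst a b₂) hτ _ _ hP ≫ mMap f a hX₁ =
      mMap f a hX₂ := by
    apply pullback.hom_ext
    · rw [Category.assoc, mMap_fst, ← Category.assoc, nMap_fst, Category.assoc, hs1, mMap_fst]
    · rw [Category.assoc, mMap_snd, ← Category.assoc, nMap_snd, Category.assoc, cMap_fst,
        mMap_snd]
  congr 1
  ext p
  change mMap f a hX₂ p ∈ Uu ↔
    mMap f a hX₁ (nMap a (pullback.snd a b₂ ≫ t) (pullback.fst a b₂) hτ _ _ hP p) ∈ Uu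
  rw [← hnm]
  rfl

end Comp

section PCLemmas

theorem PC.indicator {Y : Scheme.{u}} (F : Set Y) (hF : IsConstructible F) :
    PC (Set.indicator F (fun _ => (1 : ℤ))) := by
  intro y
  by_cases hy : y ∈ F
  · refine ⟨F, hF, hy, fun y' hy' => ?_⟩
    rw [Set.indicator_of_mem hy', Set.indicator_of_mem hy]
  · refine ⟨Fᶜ, hF.compl, hy, fun y' hy' => ?_⟩
    rw [Set.indicator_of_notMem hy', Set.indicator_of_notMem hy]

theorem PC.levelSet {Y : Scheme.{u}} [CompactSpace Y] [QuasiSeparatedSpace Y] {w : Y → ℤ}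
    (h : PC w) (n : ℤ) : IsConstructible {y | w y = n} :=
  WtCons.isConstructible_levelSet w (fun y => h y) n

theorem PC.finite_range {Y : Scheme.{u}} [CompactSpace Y] [QuasiSeparatedSpace Y] {w : Y → ℤ}
    (h : PC w) : (Set.range w).Finite :=
  WtBdd.finite_range_of_constructible_nbhd w (fun y => h y)

theorem pc_of_levelSet {Y : Scheme.{u}} {w : Y → ℤ} (h : ∀ n, IsConstructible {y | w y = n}) :
    PC w :=
  fun y => ⟨{y' | w y' = w y}, h _, rfl, fun _ hy' => hy'⟩

end PCLemmas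

section Descent

variable {I : Type u} [SmallCategory I] [IsCofiltered I] (D : I ⥤ Scheme.{u}) (c : Cone D)
  (hc : IsLimit c)

include hc in
/-- Finitely many constructible subsets of the limit descend to a common stage. -/
lemma exists_stage_constructible [∀ (i j : I) (f : i ⟶ j), IsAffineHom (D.map f)] (i₁ : I)
    [CompactSpace (D.obj i₁)] [QuasiSeparatedSpace (D.obj i₁)] (E : ℤ → Set c.pt)
    (T : Finset ℤ) (hE : ∀ n ∈ T, IsConstructible (E n)) :
    ∃ (k : Over i₁) (F : ℤ → Set (D.obj k.left)),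
      ∀ n ∈ T, IsConstructible (F n) ∧ (c.π.app k.left) ⁻¹' (F n) = E n := by
  classical
  induction T using Finset.induction_on with
  | empty => exact ⟨Over.mk (𝟙 i₁), fun _ => ∅, fun n hn => absurd hn (Finset.notMem_empty n)⟩
  | insert n T hn ih =>
    obtain ⟨k₁, F₁, hF₁⟩ := ih (fun m hm => hE m (Finset.mem_insert_of_mem hm))
    obtain ⟨k₂, Z, hZ, hZE⟩ := exists_isConstructible_preimage_eq D c hc i₁ (E n)
      (hE n (Finset.mem_insert_self n T))
    let k : Over i₁ := IsCofiltered.min k₁ k₂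
    let ψ₁ : k ⟶ k₁ := IsCofiltered.minToLeft k₁ k₂
    let ψ₂ : k ⟶ k₂ := IsCofiltered.minToRight k₁ k₂
    refine ⟨k, fun m => if m = n then (D.map ψ₂.left) ⁻¹' Z else (D.map ψ₁.left) ⁻¹' (F₁ m), ?_⟩
    intro m hm
    by_cases hmn : m = n
    · subst hmn
      simp only [if_true]
      exact ⟨(D.map ψ₂.left).isConstructible_preimage hZ,
        (preimage_π_app_map D c ψ₂.left Z).trans hZE⟩
    · have hmT : m ∈ T := (Finset.mem_insert.mp hm).resolve_left hmn
      simp only [if_neg hmn]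
      exact ⟨(D.map ψ₁.left).isConstructible_preimage (hF₁ m hmT).1,
        (preimage_π_app_map D c ψ₁.left (F₁ m)).trans (hF₁ m hmT).2⟩

include hc in
/-- A function on the limit with constructible level sets descends to a finite stage. -/
lemma exists_stage_function [∀ (i j : I) (f : i ⟶ j), IsAffineHom (D.map f)] (i₁ : I)
    [CompactSpace (D.obj i₁)] [QuasiSeparatedSpace (D.obj i₁)] (w : c.pt → ℤ)
    (hw : ∀ n, IsConstructible {x | w x = n}) :
    ∃ (k : Over i₁) (wk : D.obj k.left → ℤ), PC wk ∧ ∀ x, wk (c.π.app k.left x) = w x := by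
  classical
  haveI : CompactSpace c.pt := compactSpace_pt_of_compactSpace D c hc i₁
  haveI : QuasiSeparatedSpace c.pt := quasiSeparatedSpace_pt_of_quasiSeparatedSpace D c hc i₁
  have hfin : (Set.range w).Finite := PC.finite_range (pc_of_levelSet hw)
  let T : Finset ℤ := hfin.toFinset
  have hT : ∀ x, w x ∈ T := fun x => hfin.mem_toFinset.mpr ⟨x, rfl⟩
  obtain ⟨k, F, hF⟩ := exists_stage_constructible D c hc i₁ (fun n => {x | w x = n}) T
    (fun n _ => hw n)
  refine ⟨k, fun y => ∑ n ∈ T, n * Set.indicator (F n) (fun _ => (1 : ℤ)) y, ?_, ?_⟩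
  · exact PC.finset_sum T (fun n y => n * Set.indicator (F n) (fun _ => (1 : ℤ)) y)
      (fun n hn => PC.const_mul n (PC.indicator (F n) (hF n hn).1))
  · intro x
    have h1 : ∀ n ∈ T, n * Set.indicator (F n) (fun _ => (1 : ℤ)) (c.π.app k.left x) =
        if w x = n then n else 0 := by
      intro n hn
      have hmem : c.π.app k.left x ∈ F n ↔ w x = n := by
        have := (hF n hn).2
        constructor
        · intro h
          have hx : x ∈ (c.π.app k.left) ⁻¹' (F n) := h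
          rw [this] at hx
          exact hx
        · intro h
          have hx : x ∈ {x | w x = n} := h
          rw [← this] at hx
          exact hx
      by_cases h : w x = n
      · rw [Set.indicator_of_mem (hmem.mpr h), if_pos h, mul_one]
      · rw [Set.indicator_of_notMem (fun h' => h (hmem.mp h')), if_neg h, mul_zero]
    change ∑ n ∈ T, n * Set.indicator (F n) (fun _ => (1 : ℤ)) (c.π.app k.left x) = w x
    rw [Finset.sum_congr rfl h1, Finset.sum_ite_eq, if_pos (hT x)]

end Descent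

end Groth.Agent.H5.Wt
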