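import Mathlib
import Groth.Prelude.Def_MoreMor
import Groth.Agent.Lib.Helper5.Wt.WtC
import Groth.Agent.Lib.Helper5.FO.FoG

/-!
# Weightings descend along limits, part D (helper5)
-/

set_option autoImplicit false
universe u
open CategoryTheory CategoryTheory.Limits AlgebraicGeometry Topology

namespace Groth.Agent.H5.Wt

open Groth.Agent.H1 Groth.Agent.H1.WtLift Groth.Agent.H1.WtJ Groth.Agent.H1.WtKey
  Groth.Agent.H1.WtBC Groth.Agent.H1.WtComp Groth.Agent.H1.WtLvl Groth.Agent.H5.Lim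

section PCIFn

variable {X Y Yu : Scheme.{u}} (f : X ⟶ Y) (a : Yu ⟶ Y) (Uu : (pullback f a).Opens)
  {X' Y' : Scheme.{u}} {pX : X' ⟶ X} {f' : X' ⟶ Y'} {b : Y' ⟶ Y} (hX' : IsPullback pX f' f b)

/-- The integral `IFn` of a function with constructible level sets is piecewise constant. -/
theorem pc_IFn [LocallyQuasiFinite f] [LocallyOfFinitePresentation f]
    (hfin : IsFinite (Uu.ι ≫ pullback.snd f a)) [CompactSpace ↥(pullback a b)]
    [QuasiSeparatedSpace ↥(pullback a b)] (w' : X' → ℤ) (T : Finset ℤ) (hT : ∀ x, w' x ∈ T)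
    (hw' : ∀ n, IsConstructible {x | w' x = n}) : PC (IFn f a Uu hX' w') := by
  haveI : LocallyOfFinitePresentation f' := MorphismProperty.of_isPullback hX' ‹_›
  haveI : LocallyOfFinitePresentation (pullback.snd f' (pullback.snd a b)) :=
    MorphismProperty.pullback_snd _ _ inferInstance
  haveI hZfin := isFinite_ZOpen f a Uu hX' hfin
  haveI : LocallyOfFinitePresentation
      ((ZOpen f a Uu hX').ι ≫ pullback.snd f' (pullback.snd a b)) := inferInstance
  unfold IFn J
  refine pc_fibreIntegral ((ZOpen f a Uu hX').ι ≫ pullback.snd f' (pullback.snd a b)) _ T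
    (fun u => hT _) (fun n => ?_)
  exact ((ZOpen f a Uu hX').ι ≫ pullback.fst f' (pullback.snd a b)).isConstructible_preimage
    (hw' n)

end PCIFn

section Main

variable {I : Type u} [SmallCategory I] [IsCofiltered I] (D : I ⥤ Scheme.{u}) (c : Cone D)
  (hc : IsLimit c)

include hc in
/-- The canonical form: a weighting of the base change to the limit descends to a stage. -/
theorem exists_weighting_stage [∀ i, IsAffine (D.obj i)] (i0 : I) {X0 : Scheme.{u}}
    [IsAffine X0] (f0 : X0 ⟶ D.obj i0) [LocallyQuasiFinite f0] [LocallyOfFinitePresentation f0]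
    (w : ↑(pullback f0 (c.π.app i0)) → ℤ)
    (hw : GenWeighting (pullback.snd f0 (c.π.app i0)) w) :
    ∃ (k : Over i0) (wk : ↑(pullback f0 (D.map k.hom)) → ℤ),
      GenWeighting (pullback.snd f0 (D.map k.hom)) wk ∧ ∀ x, wk (bcProj D c f0 k x) = w x := by
  classical
  have hDaff : ∀ (i j : I) (φ : i ⟶ j), IsAffineHom (D.map φ) := fun _ _ _ => inferInstance
  obtain ⟨Yu, a, Uu, hafp, haqc, haqs, hfin, hU⟩ := FO.exists_universal_finite_open f0
  haveI : CompactSpace Yu := QuasiCompact.compactSpace_of_compactSpace a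
  haveI : QuasiSeparatedSpace Yu := quasiSeparatedSpace_of_quasiSeparated a
  haveI hXaff : ∀ (j k : Over i0) (φ : j ⟶ k), IsAffineHom ((bcDiagram D f0).map φ) :=
    fun j k φ => isAffineHom_bcMap D f0 φ (hDaff _ _ _)
  haveI hYaff : ∀ (j k : Over i0) (φ : j ⟶ k), IsAffineHom ((bcDiagram D a).map φ) :=
    fun j k φ => isAffineHom_bcMap D a φ (hDaff _ _ _)
  let k₀ : Over i0 := Over.mk (𝟙 i0)
  haveI : CompactSpace ((bcDiagram D f0).obj k₀) :=
    compactSpace_bcDiagram_obj D f0 k₀ (hDaff _ _ _)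
  haveI : QuasiSeparatedSpace ((bcDiagram D f0).obj k₀) :=
    quasiSeparatedSpace_bcDiagram_obj D f0 k₀ (hDaff _ _ _)
  haveI : CompactSpace ↥(pullback f0 (c.π.app i0)) :=
    compactSpace_pt_of_compactSpace (bcDiagram D f0) (bcCone D c f0) (isLimitBcCone D c f0 hc) k₀
  haveI : QuasiSeparatedSpace ↥(pullback f0 (c.π.app i0)) :=
    quasiSeparatedSpace_pt_of_quasiSeparatedSpace (bcDiagram D f0) (bcCone D c f0)
      (isLimitBcCone D c f0 hc) k₀
  -- level sets of `w`
  have hw' : MoreMor.IsWeighting (pullback.snd f0 (c.π.app i0)) w := isWeighting_of_genWeighting hw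
  have hlevel : ∀ n, IsConstructible {x : ↥(pullback f0 (c.π.app i0)) | w x = n} := fun n =>
    (WtCons.isLocallyConstructible_levelSet (pullback.snd f0 (c.π.app i0)) w hw' n).isConstructible
  -- descend `w`
  obtain ⟨k₁', wk, hwk, hwkw⟩ := exists_stage_function (bcDiagram D f0) (bcCone D c f0)
    (isLimitBcCone D c f0 hc) k₀ w hlevel
  let k₁ : Over i0 := k₁'.left
  have hwkw' : ∀ x, wk (bcProj D c f0 k₁ x) = w x := hwkw
  haveI : CompactSpace ↥(pullback f0 (D.map k₁.hom)) :=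
    compactSpace_bcDiagram_obj D f0 k₁ (hDaff _ _ _)
  haveI : QuasiSeparatedSpace ↥(pullback f0 (D.map k₁.hom)) :=
    quasiSeparatedSpace_bcDiagram_obj D f0 k₁ (hDaff _ _ _)
  have hwk' : PC (Y := pullback f0 (D.map k₁.hom)) wk := hwk
  have hwkfin : (Set.range wk).Finite := PC.finite_range (Y := pullback f0 (D.map k₁.hom)) hwk'
  have hwklevel : ∀ n, IsConstructible {x : ↥(pullback f0 (D.map k₁.hom)) | wk x = n} :=
    fun n => PC.levelSet (Y := pullback f0 (D.map k₁.hom)) hwk' n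
  -- the function `h₁` on the stage `k₁`
  have hX₁ : IsPullback (pullback.fst f0 (D.map k₁.hom)) (pullback.snd f0 (D.map k₁.hom)) f0
      (D.map k₁.hom) := IsPullback.of_hasPullback _ _
  haveI : CompactSpace ↥(pullback a (D.map k₁.hom)) :=
    compactSpace_bcDiagram_obj D a k₁ (hDaff _ _ _)
  haveI : QuasiSeparatedSpace ↥(pullback a (D.map k₁.hom)) :=
    quasiSeparatedSpace_bcDiagram_obj D a k₁ (hDaff _ _ _)
  let h₁ : ↑(pullback a (D.map k₁.hom)) → ℤ := IFn f0 a Uu hX₁ wk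
  have hpc₁ : PC h₁ := pc_IFn f0 a Uu hX₁ hfin wk hwkfin.toFinset
    (fun x => hwkfin.mem_toFinset.mpr ⟨x, rfl⟩) hwklevel
  have hT₂ : (Set.range h₁).Finite := PC.finite_range hpc₁
  have hL : ∀ n, IsConstructible {y | h₁ y = n} := fun n => PC.levelSet hpc₁ n
  -- the limit function
  have hXinf : IsPullback (pullback.fst f0 (c.π.app i0)) (pullback.snd f0 (c.π.app i0)) f0
      (c.π.app i0) := IsPullback.of_hasPullback _ _
  have hIinf : IsLocallyConstant (IFn f0 a Uu hXinf w) :=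
    isLocallyConstant_IFn_of_genWeighting f0 a Uu hXinf hfin w hw
  have hcompatInf : ∀ y, IFn f0 a Uu hXinf w y = h₁ (bcProj D c a k₁ y) := by
    intro y
    have hw_eq : w = wk ∘ (bcProj D c f0 k₁) := funext (fun x => (hwkw' x).symm)
    rw [hw_eq]
    exact IFn_comp f0 a Uu hX₁ hXinf (c.π.app k₁.left) (c.w k₁.hom) (bcProj D c f0 k₁)
      (bcProj_fst D c f0 k₁) (bcProj_snd D c f0 k₁) hfin wk _ y
  have hopen : ∀ n, IsOpen ((bcProj D c a k₁) ⁻¹' {y | h₁ y = n}) := by
    intro n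
    have : (bcProj D c a k₁) ⁻¹' {y | h₁ y = n} = (IFn f0 a Uu hXinf w) ⁻¹' {n} := by
      ext y
      change h₁ (bcProj D c a k₁ y) = n ↔ IFn f0 a Uu hXinf w y = n
      rw [hcompatInf y]
    rw [this]
    exact hIinf.isOpen_fiber n
  haveI : CompactSpace ((bcDiagram D a).obj k₁) := compactSpace_bcDiagram_obj D a k₁ (hDaff _ _ _)
  have hstage : ∀ T₂ : Finset ℤ, ∃ k' : Over k₁, ∀ n ∈ T₂,
      IsOpen (((bcDiagram D a).map k'.hom) ⁻¹' {y | h₁ y = n}) := by
    intro T₂
    induction T₂ using Finset.induction_on with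
    | empty => exact ⟨Over.mk (𝟙 k₁), fun n hn => absurd hn (Finset.notMem_empty n)⟩
    | insert n T₂ hn ih =>
      obtain ⟨k'₁, hk'₁⟩ := ih
      obtain ⟨k'₂, hk'₂⟩ := exists_isOpen_preimage (bcDiagram D a) (bcCone D c a)
        (isLimitBcCone D c a hc) k₁ {y | h₁ y = n} (hL n) (hopen n)
      let k' : Over k₁ := IsCofiltered.min k'₁ k'₂
      let ψ₁ : k' ⟶ k'₁ := IsCofiltered.minToLeft k'₁ k'₂
      let ψ₂ : k' ⟶ k'₂ := IsCofiltered.minToRight k'₁ k'₂
      refine ⟨k', fun m hm => ?_⟩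
      rcases Finset.mem_insert.mp hm with rfl | hm
      · have e : k'.hom = ψ₂.left ≫ k'₂.hom := (CategoryTheory.Over.w ψ₂).symm
        have : ((bcDiagram D a).map k'.hom) ⁻¹' {y | h₁ y = m} =
            ((bcDiagram D a).map ψ₂.left) ⁻¹'
              (((bcDiagram D a).map k'₂.hom) ⁻¹' {y | h₁ y = m}) := by
          rw [e, Functor.map_comp]; rfl
        rw [this]
        exact hk'₂.preimage ((bcDiagram D a).map ψ₂.left).continuous
      · have e : k'.hom = ψ₁.left ≫ k'₁.hom := (CategoryTheory.Over.w ψ₁).symm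
        have : ((bcDiagram D a).map k'.hom) ⁻¹' {y | h₁ y = m} =
            ((bcDiagram D a).map ψ₁.left) ⁻¹'
              (((bcDiagram D a).map k'₁.hom) ⁻¹' {y | h₁ y = m}) := by
          rw [e, Functor.map_comp]; rfl
        rw [this]
        exact (hk'₁ m hm).preimage ((bcDiagram D a).map ψ₁.left).continuous
  obtain ⟨k', hk'⟩ := hstage hT₂.toFinset
  let k₂ : Over i0 := k'.left
  let φ : k₂ ⟶ k₁ := k'.hom
  let wk₂ : ↑(pullback f0 (D.map k₂.hom)) → ℤ := wk ∘ (bcMap D f0 φ)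
  have hX₂ : IsPullback (pullback.fst f0 (D.map k₂.hom)) (pullback.snd f0 (D.map k₂.hom)) f0
      (D.map k₂.hom) := IsPullback.of_hasPullback _ _
  have hcompat₂ : ∀ y, IFn f0 a Uu hX₂ wk₂ y = h₁ (bcMap D a φ y) := fun y =>
    IFn_comp f0 a Uu hX₁ hX₂ (D.map φ.left) (by rw [← D.map_comp, CategoryTheory.Over.w])
      (bcMap D f0 φ) (bcMap_fst D f0 φ) (bcMap_snd D f0 φ) hfin wk _ y
  have hlc : IsLocallyConstant (IFn f0 a Uu hX₂ wk₂) := by
    rw [IsLocallyConstant.iff_isOpen_fiber]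
    intro n
    by_cases hn : n ∈ hT₂.toFinset
    · have h1 := hk' n hn
      have : (IFn f0 a Uu hX₂ wk₂) ⁻¹' {n} =
          ((bcDiagram D a).map k'.hom) ⁻¹' {y | h₁ y = n} := by
        ext y
        change IFn f0 a Uu hX₂ wk₂ y = n ↔ h₁ (bcMap D a φ y) = n
        rw [hcompat₂ y]
      rw [this]
      exact h1
    · have : (IFn f0 a Uu hX₂ wk₂) ⁻¹' {n} = ∅ := by
        ext y
        simp only [Set.mem_preimage, Set.mem_singleton_iff, Set.mem_empty_iff_false, iff_false]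
        intro h
        apply hn
        rw [Set.Finite.mem_toFinset]
        exact ⟨bcMap D a φ y, by rw [← hcompat₂ y]; exact h⟩
      rw [this]
      exact isOpen_empty
  refine ⟨k₂, wk₂, genWeighting_of_isLocallyConstant_IFn f0 a Uu hX₂ hfin hU wk₂ hlc, ?_⟩
  intro x
  change wk (bcMap D f0 φ (bcProj D c f0 k₂ x)) = w x
  have h := (bcCone D c f0).w φ
  have h' : bcMap D f0 φ (bcProj D c f0 k₂ x) = bcProj D c f0 k₁ x :=
    congrArg (fun ψ : (bcCone D c f0).pt ⟶ (bcDiagram D f0).obj k₁ => ψ x) h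
  rw [h']
  exact hwkw' x

include hc in
/-- **Weightings descend along limits** (the form of S7192). -/
theorem isWeighting_descends [∀ i, IsAffine (D.obj i)] (i0 : I) {X0 X : Scheme.{u}}
    [IsAffine X0] (f0 : X0 ⟶ D.obj i0) [LocallyQuasiFinite f0] [LocallyOfFinitePresentation f0]
    (f : X ⟶ c.pt) (pX : X ⟶ X0) (hX : IsPullback pX f f0 (c.π.app i0))
    (w : X → ℤ) (hw : MoreMor.IsWeighting f w) :
    ∃ (i : I) (a : i ⟶ i0) (Xi : Scheme.{u}) (fi : Xi ⟶ D.obj i) (pXi : Xi ⟶ X0) (g : X ⟶ Xi)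
      (wi : Xi → ℤ),
      IsPullback pXi fi f0 (D.map a) ∧ g ≫ fi = f ≫ c.π.app i ∧ g ≫ pXi = pX ∧
      MoreMor.IsWeighting fi wi ∧ ∀ x : X, wi (g x) = w x := by
  haveI : LocallyQuasiFinite f := MorphismProperty.of_isPullback hX ‹_›
  haveI : LocallyOfFiniteType f := MorphismProperty.of_isPullback hX inferInstance
  let e := hX.isoPullback
  have he1 : e.hom ≫ pullback.fst f0 (c.π.app i0) = pX := hX.isoPullback_hom_fst
  have he2 : e.hom ≫ pullback.snd f0 (c.π.app i0) = f := hX.isoPullback_hom_snd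
  have he3 : e.inv ≫ f = pullback.snd f0 (c.π.app i0) := hX.isoPullback_inv_snd
  haveI : IsIso (𝟙 c.pt) := IsIso.id _
  have hsq : IsPullback e.inv (pullback.snd f0 (c.π.app i0)) f (𝟙 c.pt) :=
    IsPullback.of_horiz_isIso ⟨by rw [he3]; exact (Category.comp_id _).symm⟩
  have hw₁ : GenWeighting (pullback.snd f0 (c.π.app i0)) (w ∘ e.inv) :=
    genWeighting_baseChange f w (genWeighting_of_isWeighting hw) _ e.inv (𝟙 c.pt) hsq
  obtain ⟨k, wk, hwk, hwkw⟩ := exists_weighting_stage D c hc i0 f0 (w ∘ e.inv) hw₁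
  refine ⟨k.left, k.hom, pullback f0 (D.map k.hom), pullback.snd f0 (D.map k.hom),
    pullback.fst f0 (D.map k.hom), e.hom ≫ bcProj D c f0 k, wk, IsPullback.of_hasPullback _ _,
    ?_, ?_, isWeighting_of_genWeighting hwk, ?_⟩
  · rw [Category.assoc, bcProj_snd, ← Category.assoc, he2]
  · rw [Category.assoc, bcProj_fst, he1]
  · intro x
    change wk (bcProj D c f0 k (e.hom x)) = w x
    rw [hwkw (e.hom x)]
    change w ((e.hom ≫ e.inv) x) = w x
    rw [e.hom_inv_id]
    rfl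

end Main

end Groth.Agent.H5.Wt
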